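import Cfsg.Agent.H947.Cyc.Basic_m3
import Cfsg.Agent.H503.El.O73
import Cfsg.Agent.H503.El.O83Main
import Cfsg.Agent.H503.El.Fix2_m3
import Cfsg.Agent.S0813
import Cfsg.Agent.S0265
import Cfsg.Agent.H809.SelfCentUni
import Cfsg.Agent.Prune
set_option linter.all false

-- part: H503/El/CG
section
set_option linter.all false
open scoped Cfsg.Agent.FastGrp

/-!
# The small classical groups: cyclic prime versions (for S3561, S3679) (helper503)

`cgap_*` : for a proper subgroup `R` some prime which divides `|T|` exactly once does not divide `|R|`, or `|R|` is in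
an explicit list.
-/

set_option autoImplicit false
set_option maxRecDepth 100000

namespace Cfsg.Agent.H503.El

open Subgroup Cfsg.Agent.H970.StabNum Cfsg.Agent.H278.El Cfsg.Agent.H396 Cfsg.Agent Cfsg.Agent.H899.CG

/-- the possible orders of the proper subgroups with all primes of exponent one -/
def subC (N : ℕ) (l : List (ℕ × ℕ)) (data : List (ℕ × ℕ × ℕ)) (ps tbl : List ℕ) : List ℕ :=
  (divs l).filter fun h => (l.all fun x => x.2 != 1 || h % x.1 == 0) && (Nat.blt h N && feasAll data ps tbl h)

theorem cgap_sub {T : Type} [Group T] [Finite T] {N : ℕ} {l : List (ℕ × ℕ)} {data : List (ℕ × ℕ × ℕ)}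
    {ps tbl : List ℕ} (hN : Nat.card T = N) (hv : OrdDiv.valid l N = true)
    (hl : (l.all fun x => x.2 != 1 || (N % x.1 == 0 && N % (x.1 ^ 2) != 0)) = true) (D : Data T data ps tbl)
    (R : Subgroup T) (hR : R ≠ ⊤) :
    CGap T R ∨ Nat.card R ∈ subC N l data ps tbl := by
  subst hN
  by_cases h : ∀ x ∈ l, x.2 = 1 → Nat.card R % x.1 = 0
  · right
    unfold subC
    rw [List.mem_filter]
    refine ⟨mem_divs_of_valid hv (Subgroup.card_subgroup_dvd_card R), bandI ?_ (bandI ?_ (D.feas R))⟩
    · rw [List.all_eq_true]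
      intro x hx
      by_cases h1 : x.2 = 1
      · rw [h x hx h1]
        simp
      · simp [h1]
    · rw [Nat.blt_eq]
      refine lt_of_le_of_ne (Nat.le_of_dvd Nat.card_pos (Subgroup.card_subgroup_dvd_card R)) fun h1 => hR ?_
      exact Subgroup.eq_top_of_card_eq R h1
  · left
    push Not at h
    obtain ⟨x, hx, h0, h1⟩ := h
    rw [List.all_eq_true] at hl
    have h2 := hl x hx
    rw [h0] at h2
    simp only [bne_self_eq_false, Bool.false_or, Bool.and_eq_true, beq_iff_eq, bne_iff_ne, ne_eq] at h2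
    exact ⟨x.1, cyc_of_sq (OrdDiv.valid_prime hv x hx) (Nat.dvd_of_mod_eq_zero h2.1)
      (fun h3 => h2.2 (Nat.mod_eq_zero_of_dvd h3)), fun h3 => h1 (Nat.mod_eq_zero_of_dvd h3)⟩

/-- one self-centralizing subgroup of prime order -/
theorem cgap_of_ex {T : Type} [Group T] [Finite T] [IsSimpleGroup T] (OT : OrdDiv.OrderTable.{0})
    (hS : ∀ (X : Type) [Group X] [Finite X] [IsSimpleGroup X], Cfsg.IsKnownSimple' X)
    {N p M : ℕ} {l : List (ℕ × ℕ)} {ps tbl : List ℕ} (hN : Nat.card T = N) (hp : p.Prime)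
    (hp2 : ¬ p ^ 2 ∣ N) (hne : N ≠ p) (hM : okM N p 1 M = true)
    (hok : allOk N l [(p, 1, M)] ps tbl = true)
    (hl : (l.all fun x => x.2 != 1 || (N % x.1 == 0 && N % (x.1 ^ 2) != 0)) = true)
    (h : ∃ R : Subgroup T, Nat.card R = p ∧ centralizer (R : Set T) = R)
    (R : Subgroup T) (hR : R ≠ ⊤) : CGap T R ∨ Nat.card R ∈ subC N l [(p, 1, M)] ps tbl := by
  have hv : OrdDiv.valid l N = true := by
    unfold allOk at hok
    rw [Bool.and_eq_true] at hok
    exact hok.1
  refine cgap_sub hN hv hl (mk_data OT hS hN hok fun x hx => ?_) R hR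
  rw [List.mem_singleton] at hx
  subst hx
  exact entry_of_ex hp hN hp2 hne hM h

variable (OT : OrdDiv.OrderTable.{0})
  (hS : ∀ (X : Type) [Group X] [Finite X] [IsSimpleGroup X], Cfsg.IsKnownSimple' X)

include OT hS

theorem cgap_psl34 (F : Type) [Field F] [Fintype F] (hF : Fintype.card F = 4)
    (R : Subgroup (Matrix.ProjectiveSpecialLinearGroup (Fin 3) F)) (hR : R ≠ ⊤) : CGap _ R := by
  haveI : IsSimpleGroup (Matrix.ProjectiveSpecialLinearGroup (Fin 3) F) := S0249.result 3 le_rfl
  exact (cgap_of_ex OT hS (p := 5) (M := 2) (l := [(2, 6), (3, 2), (5, 1), (7, 1)]) (ps := [2, 3, 5, 7])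
    (tbl := [60, 168, 360, 504, 2520, 20160]) (card_psl34 hF) (by norm_num) (by norm_num) (by norm_num)
    (by decide +kernel) (by decide +kernel) (by decide +kernel)
    (H809.SelfCent.psl_selfcent 3 4 5 (by simp) F hF) R hR).resolve_right (not_mem_of_isEmpty (by decide +kernel))

/-- `L₆(2)` -/
theorem cgap_psl62 (F : Type) [Field F] [Fintype F] (hF : Fintype.card F = 2)
    (R : Subgroup (Matrix.ProjectiveSpecialLinearGroup (Fin 6) F)) (hR : R ≠ ⊤) :
    CGap _ R ∨ Nat.card R ∈ [155, 4960, 158720, 5079040, 9999360, 319979520] := by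
  haveI : IsSimpleGroup (Matrix.ProjectiveSpecialLinearGroup (Fin 6) F) := S0249.result 6 (by norm_num)
  have h := cgap_of_ex OT hS (p := 31) (M := 5) (l := [(2, 15), (3, 4), (5, 1), (7, 2), (31, 1)]) (ps := [2, 3, 5, 7, 31])
    (tbl := [60, 168, 360, 504, 2520, 6048, 14880, 20160, 25920, 181440, 1451520, 9999360, 20158709760])
    (card_psl62 hF) (by norm_num) (by norm_num) (by norm_num)
    (by decide +kernel) (by decide +kernel) (by decide +kernel)
    (H809.SelfCent.psl_selfcent 6 2 31 (by simp) F hF) R hR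
  have h1 : (subC 20158709760 [(2, 15), (3, 4), (5, 1), (7, 2), (31, 1)] [(31, 1, 5)] [2, 3, 5, 7, 31]
      [60, 168, 360, 504, 2520, 6048, 14880, 20160, 25920, 181440, 1451520, 9999360, 20158709760]).all
        (fun h => [155, 4960, 158720, 5079040, 9999360, 319979520].contains h) = true := by decide +kernel
  rw [List.all_eq_true] at h1
  exact h.imp_right fun h2 => List.contains_iff_mem.1 (h1 _ h2)

/-- `Ω⁺₈(2)` -/
theorem cgap_o8p (F : Type) [Field F] [Fintype F] (hF : Fintype.card F = 2)
    (R : Subgroup (POmega F (quadFormPlus 4 F))) (hR : R ≠ ⊤) :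
    CGap _ R ∨ Nat.card R ∈ [7, 14, 21, 42, 56, 112, 168, 336, 448, 504, 896, 1344, 1512, 2520, 2688, 3584, 4032, 5040,
      6048, 7168, 10752, 12096, 20160, 21504, 28672, 32256, 40320, 48384, 86016, 96768, 161280, 181440, 258048, 322560,
      387072, 604800, 774144, 1290240, 1451520, 4838400, 11612160] := by
  haveI : IsSimpleGroup (POmega F (quadFormPlus 4 F)) := S0296.result 4 le_rfl
  have hc : Nat.card (POmega F (quadFormPlus 4 F)) = 174182400 := by
    rw [← Nat.card_congr (pomCongr hF).toEquiv]; exact O8.card_t8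
  haveI : Finite (POmega F (quadFormPlus 4 F)) := Nat.finite_of_card_ne_zero (by rw [hc]; norm_num)
  have h := cgap_of_ex OT hS (p := 7) (M := 6) (l := [(2, 12), (3, 5), (5, 2), (7, 1)])
    (ps := [2, 3, 5, 7])
    (tbl := [60, 168, 360, 504, 2520, 6048, 20160, 25920, 181440, 604800, 1451520, 1814400, 174182400])
    hc (by norm_num) (by norm_num) (by norm_num) (by decide +kernel) (by decide +kernel) (by decide +kernel)
    (H732.SelfCent.omega8plus_selfcent hF) R hR
  have h1 : (subC 174182400 [(2, 12), (3, 5), (5, 2), (7, 1)] [(7, 1, 6)] [2, 3, 5, 7]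
      [60, 168, 360, 504, 2520, 6048, 20160, 25920, 181440, 604800, 1451520, 1814400, 174182400]).all
        (fun h => [7, 14, 21, 42, 56, 112, 168, 336, 448, 504, 896, 1344, 1512, 2520, 2688, 3584, 4032, 5040,
      6048, 7168, 10752, 12096, 20160, 21504, 28672, 32256, 40320, 48384, 86016, 96768, 161280, 181440, 258048, 322560,
      387072, 604800, 774144, 1290240, 1451520, 4838400, 11612160].contains h) = true := by decide +kernel
  rw [List.all_eq_true] at h1
  exact h.imp_right fun h2 => List.contains_iff_mem.1 (h1 _ h2)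

/-- `Ω₇(3)` -/
theorem cgap_o73 (F : Type) [Field F] [Fintype F] (hF : Fintype.card F = 3)
    (R : Subgroup (POmega F (quadFormOdd 3 F))) (hR : R ≠ ⊤) : CGap _ R := by
  haveI : IsSimpleGroup (POmega F (quadFormOdd 3 F)) := S0295.result (by rw [hF]; decide) 3 le_rfl
  haveI : Finite (POmega F (quadFormOdd 3 F)) := Nat.finite_of_card_ne_zero (by rw [card_o73 hF]; norm_num)
  exact (cgap_of_ex OT hS (p := 13) (M := 6) (l := [(2, 9), (3, 9), (5, 1), (7, 1), (13, 1)]) (ps := [2, 3, 5, 7, 13])
    (tbl := [60, 168, 360, 504, 1092, 2520, 5616, 6048, 9828, 20160, 25920, 29120, 181440, 262080, 1451520, 3265920,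
      4245696, 6065280, 42456960, 4585351680]) (card_o73 hF) (by norm_num) (by norm_num) (by norm_num)
    (by decide +kernel) (by decide +kernel) (by decide +kernel)
    (H134.OmegaThree.omega_odd_three hF) R hR).resolve_right (not_mem_of_isEmpty (by decide +kernel))

end Cfsg.Agent.H503.El
end

-- part: H503/BG/RowsL
section
set_option linter.all false

/-!
# Abelian regular subgroups (S3561): the small groups `Lₙ(q)` (helper503)
-/

set_option autoImplicit false
set_option maxRecDepth 100000

namespace Cfsg.Agent.H503.BG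

open Subgroup Cfsg.Agent.H970.StabNum Cfsg.Agent Cfsg.Agent.H57.BG Cfsg.Agent.H899.CG

theorem row_of_cGap {T : Type} [Group T] [Finite T] (hc : center T = ⊥) (h : ∀ R : Subgroup T, R ≠ ⊤ → CGap T R) :
    Row T := row_of_cGapMax hc fun M hM => h M hM.1

variable (OT : OrdDiv.OrderTable.{0})
  (hS : ∀ (X : Type) [Group X] [Finite X] [IsSimpleGroup X], Cfsg.IsKnownSimple' X)

include OT hS

theorem row_psl34 (F : Type) [Field F] [Fintype F] (hF : Fintype.card F = 4) :
    Row (Matrix.ProjectiveSpecialLinearGroup (Fin 3) F) := by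
  haveI : IsSimpleGroup (Matrix.ProjectiveSpecialLinearGroup (Fin 3) F) := S0249.result 3 le_rfl
  exact row_of_cGap (center_bot (El.card_psl34 hF) (p := 2) (by norm_num) (by norm_num) (by norm_num))
    (El.cgap_psl34 OT hS F hF)

end Cfsg.Agent.H503.BG
end
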